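import Cfsg.Agent.OmegaFour.Apply
import Cfsg.Agent.Eq.Def_CaseTheorems
import Mathlib.GroupTheory.SpecificGroups.Quaternion
import Mathlib.GroupTheory.SpecificGroups.KleinFour

/-!
Four-groups in a group of `2`-rank two, and Sylow subgroups of centralisers.
-/

set_option autoImplicit false

namespace CfsgLib.TwoRankTwo23

open CfsgLib.OmegaFour (eq_of_card_four mem_normalizer_conj)

variable {G : Type*} [Group G] [Finite G]

/-- An involution centralising a four-group lies in it. -/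
theorem mem_of_commute (h2 : Cfsg.PRankLE 2 2 G) {U : Subgroup G} (hU4 : Nat.card U = 4)
    (hU2 : ∀ a ∈ U, a * a = 1) {x : G} (hx : x * x = 1) (hxU : ∀ a ∈ U, Commute x a) : x ∈ U := by
  by_contra hxn
  have hi : ∀ c ∈ U, c⁻¹ = c := fun c hc => inv_eq_of_mul_eq_one_right (hU2 c hc)
  have hUc : ∀ a ∈ U, ∀ b ∈ U, Commute a b := by
    intro a ha b hb
    show a * b = b * a
    rw [← hi (a * b) (mul_mem ha hb), mul_inv_rev, hi b hb, hi a ha]
  let A : Subgroup G :=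
    { carrier := {g | ∃ a ∈ U, g = a ∨ g = a * x}
      one_mem' := ⟨1, one_mem _, Or.inl rfl⟩
      inv_mem' := by
        intro g hg
        obtain ⟨a, ha, h1 | h1⟩ := hg <;> rw [h1]
        · exact ⟨a⁻¹, inv_mem ha, Or.inl rfl⟩
        · refine ⟨a, ha, Or.inr ?_⟩
          rw [mul_inv_rev, inv_eq_of_mul_eq_one_right hx, hi a ha, (hxU a ha).eq]
      mul_mem' := by
        intro g k hg hk
        obtain ⟨a, ha, h1 | h1⟩ := hg <;> obtain ⟨b, hb, h2 | h2⟩ := hk <;> rw [h1, h2]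
        · exact ⟨a * b, mul_mem ha hb, Or.inl rfl⟩
        · exact ⟨a * b, mul_mem ha hb, Or.inr (mul_assoc _ _ _).symm⟩
        · exact ⟨a * b, mul_mem ha hb, Or.inr (by rw [mul_assoc, (hxU b hb).eq, mul_assoc])⟩
        · refine ⟨a * b, mul_mem ha hb, Or.inl ?_⟩
          rw [mul_assoc, ← mul_assoc x, (hxU b hb).eq, mul_assoc b, hx, mul_one] }
  have hAc : ∀ g ∈ A, ∀ k ∈ A, Commute g k := by
    intro g hg k hk
    obtain ⟨a, ha, h1 | h1⟩ := hg <;> obtain ⟨b, hb, h2 | h2⟩ := hk <;> rw [h1, h2]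
    · exact hUc _ ha _ hb
    · exact (hUc _ ha _ hb).mul_right (hxU _ ha).symm
    · exact (hUc _ ha _ hb).mul_left (hxU _ hb)
    · exact ((hUc _ ha _ hb).mul_right (hxU _ ha).symm).mul_left
        ((hxU _ hb).mul_right (Commute.refl x))
  have hA2 : ∀ g ∈ A, g ^ 2 = 1 := by
    intro g hg
    obtain ⟨a, ha, h1 | h1⟩ := hg <;> rw [h1]
    · rw [pow_two]; exact hU2 _ ha
    · rw [(hxU a ha).symm.mul_pow, pow_two, pow_two, hU2 a ha, hx, one_mul]
  have hle : U ≤ A := fun a ha => ⟨a, ha, Or.inl rfl⟩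
  have hne : U ≠ A := fun e => hxn (e ▸ (⟨1, one_mem _, Or.inr (one_mul x).symm⟩ : x ∈ A))
  have hcard := h2 A ⟨⟨fun a b => Subtype.ext (hAc _ a.2 _ b.2).eq⟩⟩ hA2
  refine hne (Subgroup.eq_of_le_of_card_ge hle ?_)
  rw [hU4]
  simpa using hcard

/-- An element of the normaliser of a four-group which fixes one involution and moves another one
sends the latter to their product. -/
theorem conj_eq_mul {U : Subgroup G} (hU4 : Nat.card U = 4) (hU2 : ∀ a ∈ U, a * a = 1) {k a b : G}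
    (hk : k ∈ Subgroup.normalizer (U : Set G)) (ha : a ∈ U) (hb : b ∈ U) (hb1 : b ≠ 1)
    (hka : k * a * k⁻¹ ≠ a) (hkb : k * b * k⁻¹ = b) : k * a * k⁻¹ = a * b := by
  have ha1 : a ≠ 1 := fun e => hka (by rw [e]; group)
  have hab : a ≠ b := fun e => hka (by rw [e]; exact hkb)
  rcases eq_of_card_four hU4 hU2 ha hb ha1 hb1 hab (mem_normalizer_conj hk ha) with h | h | h | h
  · exact absurd (conj_eq_one_iff.mp h) ha1
  · exact absurd h hka
  · rw [← hkb] at h
    exact absurd (mul_left_cancel (mul_right_cancel h)) hab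
  · exact h

/-- If every involution of a normalised four-group is moved, one element moves all three. -/
theorem exists_moving_all {U : Subgroup G} (hU4 : Nat.card U = 4) (hU2 : ∀ a ∈ U, a * a = 1)
    (K : Subgroup G) (hK : K ≤ Subgroup.normalizer (U : Set G))
    (h : ∀ a ∈ U, a ≠ 1 → ∃ k ∈ K, k * a * k⁻¹ ≠ a) :
    ∃ k ∈ K, ∀ a ∈ U, k * a * k⁻¹ = a → a = 1 := by
  by_contra hcon
  push Not at hcon
  obtain ⟨a, ha, ha1⟩ : ∃ a ∈ U, a ≠ 1 := by
    obtain ⟨a, ha⟩ := (Subgroup.bot_or_exists_ne_one U).resolve_left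
      (fun e => by rw [e, Subgroup.card_bot] at hU4; omega)
    exact ⟨a, ha⟩
  obtain ⟨n₁, hn₁, hn₁a⟩ := h a ha ha1
  obtain ⟨b, hb, hn₁b, hb1⟩ := hcon n₁ hn₁
  obtain ⟨n₂, hn₂, hn₂b⟩ := h b hb hb1
  obtain ⟨c, hc, hn₂c, hc1⟩ := hcon n₂ hn₂
  have hab : a ≠ b := fun e => hn₁a (by rw [e]; exact hn₁b)
  have hcab : c = a ∨ c = a * b := by
    rcases eq_of_card_four hU4 hU2 ha hb ha1 hb1 hab hc with e | e | e | e
    · exact absurd e hc1
    · exact Or.inl e
    · exact absurd (e ▸ hn₂c) hn₂b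
    · exact Or.inr e
  have e1 : n₁ * a * n₁⁻¹ = a * b := conj_eq_mul hU4 hU2 (hK hn₁) ha hb hb1 hn₁a hn₁b
  have e1' : n₁ * (a * b) * n₁⁻¹ = a := by
    rw [← conj_mul, e1, hn₁b, mul_assoc, hU2 b hb, mul_one]
  have e2 : n₂ * b * n₂⁻¹ = b * c := conj_eq_mul hU4 hU2 (hK hn₂) hb hc hc1 hn₂b hn₂c
  obtain ⟨d, hd, hpd, hd1⟩ := hcon (n₁ * n₂) (mul_mem hn₁ hn₂)
  rw [mul_inv_rev, show n₁ * n₂ * d * (n₂⁻¹ * n₁⁻¹) = n₁ * (n₂ * d * n₂⁻¹) * n₁⁻¹ by group] at hpd
  have hba : b * a = a * b := by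
    have := hU2 _ (mul_mem ha hb)
    calc b * a = a * a * (b * a) * (b * b) := by rw [hU2 a ha, hU2 b hb, one_mul, mul_one]
      _ = a * (a * b * (a * b)) * b := by group
      _ = a * b := by rw [this, mul_one]
  have hab1 : a * b ≠ 1 := fun e => hab (mul_left_cancel ((hU2 a ha).trans e.symm))
  rcases hcab with hca | hca <;> rw [hca] at hn₂c e2
  · have e2' : n₂ * (a * b) * n₂⁻¹ = b := by
      rw [← conj_mul, hn₂c, e2, hba, ← mul_assoc, hU2 a ha, one_mul]
    rcases eq_of_card_four hU4 hU2 ha hb ha1 hb1 hab hd with hd' | hd' | hd' | hd' <;> rw [hd'] at hpd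
    · exact hd1 hd'
    · rw [hn₂c, e1] at hpd
      exact hb1 (mul_left_cancel (hpd.trans (mul_one a).symm))
    · rw [e2, hba, e1'] at hpd
      exact hab hpd
    · rw [e2', hn₁b] at hpd
      exact ha1 (mul_right_cancel (hpd.symm.trans (one_mul b).symm))
  · have e2' : n₂ * b * n₂⁻¹ = a := by rw [e2, ← mul_assoc, hba, mul_assoc, hU2 b hb, mul_one]
    have e3 : n₂ * a * n₂⁻¹ = b := by
      have h4 := hn₂c
      rw [← conj_mul, e2'] at h4
      have h5 : n₂ * a * n₂⁻¹ = a * b * a⁻¹ := eq_mul_inv_iff_mul_eq.mpr h4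
      rw [h5, ← hba, mul_inv_cancel_right]
    rcases eq_of_card_four hU4 hU2 ha hb ha1 hb1 hab hd with hd' | hd' | hd' | hd' <;> rw [hd'] at hpd
    · exact hd1 hd'
    · rw [e3, hn₁b] at hpd
      exact hab hpd.symm
    · rw [e2', e1] at hpd
      exact ha1 (mul_right_cancel (hpd.trans (one_mul b).symm))
    · rw [hn₂c, e1'] at hpd
      exact hb1 (mul_left_cancel (hpd.symm.trans (mul_one a).symm))

/-- An element moving all three involutions permutes them cyclically. -/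
theorem three_cycle {U : Subgroup G} (hU4 : Nat.card U = 4) (hU2 : ∀ a ∈ U, a * a = 1) {k : G}
    (hk : k ∈ Subgroup.normalizer (U : Set G)) (hall : ∀ a ∈ U, k * a * k⁻¹ = a → a = 1) {a : G}
    (ha : a ∈ U) :
    k * (k * a * k⁻¹) * k⁻¹ = a * (k * a * k⁻¹) ∧
      k * (k * (k * a * k⁻¹) * k⁻¹) * k⁻¹ = a := by
  have hc : ∀ p ∈ U, ∀ q ∈ U, p * q = q * p := by
    intro p hp q hq
    have hi : ∀ c ∈ U, c⁻¹ = c := fun c hc => inv_eq_of_mul_eq_one_right (hU2 c hc)
    rw [← hi (p * q) (mul_mem hp hq), mul_inv_rev, hi q hq, hi p hp]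
  set b := k * a * k⁻¹ with hbdef
  have hb : b ∈ U := mem_normalizer_conj hk ha
  rcases eq_or_ne a 1 with rfl | ha1
  · have : b = 1 := by rw [hbdef]; group
    rw [this]; simp
  have hb1 : b ≠ 1 := fun e => ha1 (conj_eq_one_iff.mp (hbdef ▸ e))
  have hab : a ≠ b := fun e => ha1 (hall a ha (hbdef ▸ e.symm))
  have key : k * b * k⁻¹ = a * b := by
    rcases eq_of_card_four hU4 hU2 ha hb ha1 hb1 hab (mem_normalizer_conj hk hb) with h | h | h | h
    · exact absurd (conj_eq_one_iff.mp h) hb1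
    · have hf : k * (a * b) * k⁻¹ = a * b := by
        rw [← conj_mul, ← hbdef, h, hc _ hb _ ha]
      exact absurd (mul_left_cancel ((hall _ (mul_mem ha hb) hf).trans (hU2 a ha).symm)) (Ne.symm hab)
    · exact absurd (hall b hb h) hb1
    · exact h
  refine ⟨key, ?_⟩
  rw [key, ← conj_mul, ← hbdef, key, hc _ ha _ hb, ← mul_assoc, hU2 b hb, one_mul]

/-- Any `2`-subgroup centralising `z` is conjugate into a Sylow subgroup centralising `z`, by an
element centralising `z`. -/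
theorem exists_conj_mem_sylow {S : Sylow 2 G} {K : Subgroup G} (hS : (S : Subgroup G) ≤ K)
    {Q : Subgroup G} (hQ : IsPGroup 2 Q) (hQK : Q ≤ K) :
    ∃ c ∈ K, ∀ q ∈ Q, c * q * c⁻¹ ∈ (S : Subgroup G) := by
  haveI : Fact (Nat.Prime 2) := ⟨Nat.prime_two⟩
  obtain ⟨R, hR⟩ := (hQ.comap_of_injective K.subtype K.subtype_injective).exists_le_sylow
  obtain ⟨c, hc⟩ := MulAction.exists_smul_eq K R (S.subtype hS)
  refine ⟨c, c.2, fun q hq => ?_⟩
  have h1 : (MulAut.conj c ⟨q, hQK hq⟩ : K) ∈ (S.subtype hS : Sylow 2 K) := by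
    rw [← hc]
    exact Subgroup.smul_mem_pointwise_smul _ (MulAut.conj c) (R : Subgroup K) (hR hq)
  exact h1

/-- A quaternion group has a single involution. -/
theorem quaternion_sq_eq_one {m : ℕ} [NeZero m] {g : QuaternionGroup m} (hg : g * g = 1) :
    g = 1 ∨ g = QuaternionGroup.a (m : ZMod (2 * m)) := by
  have hm : 0 < m := Nat.pos_of_ne_zero (NeZero.ne m)
  haveI : NeZero (2 * m) := ⟨by omega⟩
  rcases g with i | i
  · rw [QuaternionGroup.a_mul_a, ← QuaternionGroup.a_zero, QuaternionGroup.a.injEq] at hg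
    obtain ⟨l, hl⟩ : ∃ l : ℕ, (l : ZMod (2 * m)) = i := ⟨i.val, ZMod.natCast_zmod_val i⟩
    subst hl
    rw [← Nat.cast_add, ZMod.natCast_eq_zero_iff] at hg
    have h1 : m ∣ l := Nat.dvd_of_mul_dvd_mul_left two_pos (by rwa [two_mul l])
    obtain ⟨t, rfl⟩ := h1
    rcases Nat.even_or_odd' t with ⟨s, rfl | rfl⟩
    · left
      rw [← QuaternionGroup.a_zero, QuaternionGroup.a.injEq, ZMod.natCast_eq_zero_iff]
      exact ⟨s, by ring⟩
    · right
      rw [show m * (2 * s + 1) = 2 * m * s + m by ring, Nat.cast_add, Nat.cast_mul,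
        ZMod.natCast_self, zero_mul, zero_add]
  · rw [QuaternionGroup.xa_mul_xa, ← QuaternionGroup.a_zero, QuaternionGroup.a.injEq] at hg
    simp only [add_sub_cancel_right, ZMod.natCast_eq_zero_iff] at hg
    have := Nat.le_of_dvd hm hg
    omega

end CfsgLib.TwoRankTwo23
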