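import Cfsg.Agent.OmegaFour.Main
import Cfsg.Agent.TwoFpf.Classify

/-!
A finite `2`-group whose involutions form, with `1`, a central four-group `W`, with an
automorphism moving all three involutions: some power of the automorphism is fixed point free of
order three, and the group is homocyclic or of unitary type.  (This is the argument of
`Cfsg.Agent.S1237`, with the structured conclusion.)
-/

set_option autoImplicit false

namespace CfsgLib.TwoRankTwo23

open CfsgLib.OmegaFour CfsgLib.TwoFpf

theorem exists_fpf_classify {T : Type*} [Group T] [Finite T] (hT : IsPGroup 2 T) {W : Subgroup T}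
    (hWc : W ≤ Subgroup.center T) (hW4 : Nat.card W = 4) (hW2 : ∀ a ∈ W, a * a = 1)
    (hW : ∀ x : T, x * x = 1 → x ∈ W) (φ : MulAut T) (hfix : ∀ a ∈ W, φ a = a → a = 1) :
    ∃ ψ : MulAut T, IsHomocyclic ψ ∨ IsUnitaryType ψ W := by
  classical
  haveI : Fact (Nat.Prime 2) := ⟨Nat.prime_two⟩
  have hinv : ∀ f : MulAut T, ∀ a ∈ W, f a ∈ W := fun f a ha =>
    hW _ (by rw [← map_mul, hW2 a ha, map_one])
  letI : CommGroup ↥W := { (inferInstance : Group ↥W) with
    mul_comm := fun a b => Subtype.ext (Subgroup.mem_center_iff.1 (hWc b.2) a) }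
  have hcube : ∀ a ∈ W, φ (φ (φ a)) = a := by
    intro a ha
    rcases eq_or_ne a 1 with rfl | ha1
    · simp
    have h := (fixedPointFree_four (σ := restrictAut W φ (hinv φ))
      (fun w => Subtype.ext (hW2 w w.2)) hW4
      (fun w hw => Subtype.ext (hfix w w.2 (congrArg Subtype.val hw))) (w := ⟨a, ha⟩)
      (fun e => ha1 (congrArg Subtype.val e)))
    have e1 : φ (φ a) = a * φ a := congrArg Subtype.val h.1
    rw [e1, map_mul, e1]
    rw [Subgroup.mem_center_iff.1 (hWc (hinv φ a ha)) a, ← mul_assoc,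
      hW2 _ (hinv φ a ha), one_mul]
  obtain ⟨j, m, hm, hjm⟩ := Nat.exists_eq_pow_mul_and_not_dvd (orderOf_pos φ).ne' 3 (by norm_num)
  have hiter : ∀ i : ℕ, ∀ a ∈ W, (φ ^ i) a = (φ ^ (i % 3)) a := by
    intro i
    induction i using Nat.strong_induction_on with
    | _ i ih =>
      intro a ha
      rcases lt_or_ge i 3 with h | h
      · rw [Nat.mod_eq_of_lt h]
      · obtain ⟨i', rfl⟩ : ∃ i', i = i' + 3 := ⟨i - 3, by omega⟩
        rw [Nat.add_mod_right, pow_add, MulAut.mul_apply,
          show (φ ^ 3) a = a from hcube a ha, ih i' (by omega) a ha]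
  set ψ := φ ^ m with hψ
  have hψfix : ∀ a ∈ W, ψ a = a → a = 1 := by
    intro a ha h
    rw [hψ, hiter m a ha] at h
    have hm3 : m % 3 ≠ 0 := fun h0 => hm (Nat.dvd_of_mod_eq_zero h0)
    rcases (show m % 3 = 1 ∨ m % 3 = 2 by omega) with e | e <;> rw [e] at h
    · exact hfix a ha h
    · refine hfix a ha ?_
      have h' : φ (φ a) = a := h
      calc φ a = φ (φ (φ a)) := by rw [h']
        _ = a := hcube a ha
  have hψ3 : ψ ^ 3 = 1 := by
    have key : ∀ i, ψ ^ 3 ^ (i + 1) = 1 → ψ ^ 3 = 1 := by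
      intro i
      induction i with
      | zero => exact fun h => h
      | succ i ih =>
        intro h
        refine ih (eq_one_of_fixes_three_involutions hT W hWc hW4 hW2 hW φ (hinv φ) hfix
          (ψ ^ 3 ^ (i + 1)) (fun a ha => ?_) ?_)
        · rw [hψ, ← pow_mul, hiter _ a ha]
          have : m * 3 ^ (i + 1) % 3 = 0 := by rw [pow_succ, ← mul_assoc]; exact Nat.mul_mod_left _ _
          rw [this]; rfl
        · rw [← pow_mul, ← pow_succ]; exact h
    refine key j ?_
    rw [hψ, ← pow_mul, pow_succ, ← mul_assoc, mul_comm m, ← hjm, pow_mul, pow_orderOf_eq_one,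
      one_pow]
  have hf : IsFpfThree ψ := by
    refine ⟨fun x => ?_, fun x hx => ?_⟩
    · show (ψ ^ 3) x = x
      rw [hψ3]; rfl
    · by_contra hx1
      have hex : ∃ i, x ^ 2 ^ i = 1 := hT x
      have h0 : Nat.find hex ≠ 0 := fun h => hx1 (by
        have := Nat.find_spec hex; rwa [h, pow_zero, pow_one] at this)
      have hy : x ^ 2 ^ (Nat.find hex - 1) ∈ W := by
        refine hW _ ?_
        rw [← pow_add, ← mul_two, ← pow_succ, Nat.sub_add_cancel (by omega)]
        exact Nat.find_spec hex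
      exact Nat.find_min hex (show Nat.find hex - 1 < Nat.find hex by omega)
        (hψfix _ hy (by rw [map_pow, hx]))
  exact ⟨ψ, classify hT hf ⟨hWc, hW4, hW2, hinv ψ⟩ hW⟩

end CfsgLib.TwoRankTwo23
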